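import Cfsg.Prelude.Def_ChevWords

/-!
Functoriality of the Chevalley matrices in the field: an injection of fields applied entrywise
sends `x_r(t)` to `x_r(f t)`; a field automorphism gives an automorphism of the group.
-/

set_option autoImplicit false

open scoped MatrixGroups Matrix

namespace CfsgLib.Chevalley

open Cfsg.Lie Matrix

variable (D : ChevalleyDatum) {F E : Type*} [Field F] [Field E]

theorem xMat_map_ringHom (f : F →+* E) (r : Fin D.nroots) (t : F) :
    (D.xMat F r t).map f = D.xMat E r (f t) := by
  ext row col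
  simp only [Matrix.map_apply, ChevalleyDatum.xMat, Matrix.of_apply]
  rcases col with i | s
  · rcases row with i' | u <;> simp [apply_ite f]
  · by_cases h1 : s = r
    · rcases row with i' | u <;> simp [h1, apply_ite f]
    · by_cases h2 : s.val = D.negIdx.getD r.val 0
      · rcases row with i' | u <;> simp only [if_neg h1, if_pos h2] <;> simp [apply_ite f]
      · rcases row with i' | u
        · simp only [if_neg h1, if_neg h2, map_zero]
        · simp only [if_neg h1, if_neg h2]
          simp [apply_ite f, map_list_sum, List.map_map, Function.comp_def]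

theorem x_map_ringHom (f : F →+* E) (r : ℕ) (t : F) :
    (D.x F r t).map f = D.x E r (f t) := by
  unfold ChevalleyDatum.x
  split_ifs with h
  · exact xMat_map_ringHom D f _ _
  · simp [Matrix.map_one]

theorem wordMat_map_ringHom (f : F →+* E) (w : List (ℕ × F)) :
    (D.wordMat F w).map f = D.wordMat E (w.map fun p => (p.1, f p.2)) := by
  induction w with
  | nil => simp [ChevalleyDatum.wordMat, Matrix.map_one]
  | cons p w ih =>
    simp only [ChevalleyDatum.wordMat, List.map_cons, List.prod_cons, List.map_map] at ih ⊢
    rw [Matrix.map_mul, ih, x_map_ringHom]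

/-- The entrywise action of an automorphism of the field on the general linear group. -/
def glFieldEquiv (n : Type*) [Fintype n] [DecidableEq n] (f : F ≃+* E) : GL n F ≃* GL n E :=
  Units.mapEquiv f.mapMatrix.toMulEquiv

theorem glFieldEquiv_coe {n : Type*} [Fintype n] [DecidableEq n] (f : F ≃+* E) (g : GL n F) :
    ((glFieldEquiv n f g : GL n E) : Matrix n n E) = (g : Matrix n n F).map f := rfl

theorem group_map_glFieldEquiv (f : F ≃+* E) :
    (D.group F).map (glFieldEquiv D.Idx f : GL D.Idx F →* GL D.Idx E) = D.group E := by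
  rw [ChevalleyDatum.group, MonoidHom.map_closure, ChevalleyDatum.group]
  congr 1
  ext g
  constructor
  · rintro ⟨h, ⟨r, t, ht⟩, rfl⟩
    refine ⟨r, f t, ?_⟩
    exact (congrArg (fun M => Matrix.map M f) ht).trans (xMat_map_ringHom D f.toRingHom r t)
  · rintro ⟨r, t, ht⟩
    refine ⟨(glFieldEquiv D.Idx f).symm g, ⟨r, f.symm t, ?_⟩, ?_⟩
    · exact (congrArg (fun M => Matrix.map M f.symm) ht).trans (xMat_map_ringHom D f.symm.toRingHom r t)
    · simp

/-- The field automorphism of the Chevalley group attached to a field isomorphism. -/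
noncomputable def groupFieldEquiv (f : F ≃+* E) : ↥(D.group F) ≃* ↥(D.group E) :=
  ((glFieldEquiv D.Idx f).subgroupMap (D.group F)).trans
    (MulEquiv.subgroupCongr (group_map_glFieldEquiv D f))

theorem groupFieldEquiv_coe (f : F ≃+* E) (g : ↥(D.group F)) :
    ((groupFieldEquiv D f g : GL D.Idx E) : Matrix D.Idx D.Idx E) =
      ((g : GL D.Idx F) : Matrix D.Idx D.Idx F).map f := rfl

theorem groupFieldEquiv_x (f : F ≃+* E) (g : ↥(D.group F)) (r : ℕ) (t : F)
    (hg : ((g : GL D.Idx F) : Matrix D.Idx D.Idx F) = D.x F r t) :
    ((groupFieldEquiv D f g : GL D.Idx E) : Matrix D.Idx D.Idx E) = D.x E r (f t) := by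
  rw [groupFieldEquiv_coe, hg]
  exact x_map_ringHom D f.toRingHom r t

end CfsgLib.Chevalley
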