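import Cfsg.Agent.Lib.Chevalley.ChainFlat
import Cfsg.Prelude.Def_ChevAutomorphisms
import Cfsg.Prelude.Def_ChevG2
import Cfsg.Prelude.Def_ChevB2
import Cfsg.Prelude.Def_ChevD4
import Cfsg.Prelude.Def_ChevF4
import Cfsg.Prelude.Def_ChevE6
import Cfsg.Prelude.Def_ChevE7
import Cfsg.Prelude.Def_ChevE8

/-!
Characters of the root lattice on the chain table: if `(s, u, k, M)` is a term of `x_r(t) e_s`
then `χ u = χ r ^ k * χ s`, and the diagonal matrix of `χ` scales the root elements.
-/

set_option autoImplicit false

namespace CfsgLib.Chevalley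

open Cfsg.Lie

variable (D : ChevalleyDatum)

/-- Consecutive members of the list are linked by adding the root `r`. -/
def linkOK (r : ℕ) : List (ℕ × ℤ) → Bool
  | [] => true
  | [_] => true
  | a :: b :: l => decide (a.1 < D.nroots ∧ D.chainRoot r a.1 1 = some b.1) && linkOK r (b :: l)

/-- Keys strictly increasing. -/
def keysIncr : List ℕ → Bool
  | [] => true
  | [_] => true
  | a :: b :: l => decide (a < b) && keysIncr (b :: l)

/-- The Boolean test of the chain table used for characters. -/
def charTest : Bool :=
  (List.range D.nroots).all fun r =>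
    keysIncr ((D.chain.getD r #[]).toList.map Prod.fst) &&
    (D.chain.getD r #[]).toList.all fun e =>
      decide (e.1 < D.nroots) && linkOK D r e.2.toList

theorem keysIncr_pairwise : ∀ (l : List ℕ), keysIncr l = true → l.Pairwise (· < ·)
  | [], _ => List.Pairwise.nil
  | [_], _ => List.pairwise_singleton _ _
  | a :: b :: l, h => by
    simp only [keysIncr, Bool.and_eq_true, decide_eq_true_eq] at h
    have ih := keysIncr_pairwise (b :: l) h.2
    refine List.pairwise_cons.2 ⟨fun x hx => ?_, ih⟩
    rcases List.mem_cons.1 hx with rfl | hx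
    · exact h.1
    · exact h.1.trans ((List.pairwise_cons.1 ih).1 x hx)

variable {D} {F : Type*} [Field F] {χ : ℕ → Fˣ}

theorem linkOK_char (hχ : D.IsRootCharacter χ) {r : ℕ} (hr : r < D.nroots) (c : Fˣ) :
    ∀ (l : List (ℕ × ℤ)), linkOK D r l = true → (∀ h : 0 < l.length, χ l[0].1 = χ r * c) →
      ∀ (i : ℕ) (h : i < l.length), χ l[i].1 = χ r ^ (i + 1) * c
  | [], _, _, i, h => absurd h (by simp)
  | [a], _, h0, i, h => by
    obtain rfl : i = 0 := by simp at h; omega
    rw [pow_one]; exact h0 h
  | a :: b :: l, hl, h0, i, h => by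
    simp only [linkOK, Bool.and_eq_true, decide_eq_true_eq] at hl
    match i with
    | 0 => rw [pow_one]; exact h0 h
    | i + 1 =>
      have hb : χ b.1 = χ r * (χ r * c) := by
        rw [hχ.2 r a.1 b.1 hr hl.1.1 hl.1.2]
        exact congrArg _ (h0 (by simp))
      have := linkOK_char hχ hr (χ r * c) (b :: l) hl.2 (fun _ => hb) i (by simpa using h)
      rw [pow_succ _ (i + 1), mul_assoc]
      exact this

theorem chainFlat_char (htest : charTest D = true) (hχ : D.IsRootCharacter χ) {r : ℕ}
    (hr : r < D.nroots) {s u k : ℕ} {M : ℤ} (ha : (s, u, k, M) ∈ chainFlat D r) :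
    χ u = χ r ^ k * χ s := by
  simp only [charTest, List.all_eq_true, List.mem_range, Bool.and_eq_true, decide_eq_true_eq] at htest
  obtain ⟨hk, hall⟩ := htest r hr
  simp only [chainFlat, List.mem_flatMap, List.mem_map] at ha
  obtain ⟨e, he, q, hq, heq⟩ := ha
  simp only [Prod.mk.injEq] at heq
  obtain ⟨rfl, rfl, rfl, rfl⟩ := heq
  obtain ⟨hs, hl⟩ := hall e he
  obtain ⟨⟨u, M⟩, i⟩ := q
  rw [List.mem_zipIdx_iff_getElem?, List.getElem?_eq_some_iff] at hq
  obtain ⟨hi, hget⟩ := hq
  have hpw := keysIncr_pairwise _ hk
  have hfind : (D.chain.getD r #[]).toList.find? (fun x => x.1 = e.1) = some e := by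
    rw [List.find?_eq_some_iff_append]
    obtain ⟨as, bs, hab⟩ := List.append_of_mem he
    refine ⟨by simp, as, bs, hab, fun x hx => ?_⟩
    rw [hab, List.map_append, List.map_cons, List.pairwise_append] at hpw
    have := hpw.2.2 x.1 (List.mem_map_of_mem hx) e.1 List.mem_cons_self
    simp [this.ne]
  have h0 : ∀ h : 0 < e.2.toList.length, χ (e.2.toList[0]'h).1 = χ r * χ e.1 := by
    intro h
    refine hχ.2 r e.1 _ hr hs ?_
    simp only [ChevalleyDatum.chainRoot, ChevalleyDatum.chainEntry, hfind, Nat.sub_self,
      List.getElem?_eq_getElem h, Option.map_some]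
  have := linkOK_char hχ hr (χ e.1) e.2.toList hl h0 i hi
  rw [hget] at this
  exact this

theorem charDiag_conj_x (htest : charTest D = true) (hχ : D.IsRootCharacter χ) {r : ℕ}
    (hr : r < D.nroots) (t : F) :
    D.charDiag F χ * D.x F r t * D.charDiag F (fun s => (χ s)⁻¹) = D.x F r ((χ r : F) * t) := by
  simp only [ChevalleyDatum.x, dif_pos hr, ChevalleyDatum.charDiag]
  ext row col
  rw [Matrix.mul_diagonal, Matrix.diagonal_mul]
  simp only [ChevalleyDatum.xMat, Matrix.of_apply]
  rcases col with i | s
  · rcases row with i' | u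
    · simp
    · simp only [Sum.elim_inl, Sum.elim_inr, mul_one]
      split_ifs with h
      · subst h; ring
      · simp
  · simp only [Sum.elim_inr]
    by_cases h1 : s = ⟨r, hr⟩
    · subst h1
      rcases row with i' | u
      · simp
      · simp only [if_true, Sum.elim_inr]
        split_ifs with h
        · subst h; simp
        · simp
    simp only [if_neg h1]
    by_cases h2 : (s : ℕ) = D.negIdx.getD r 0
    · simp only [if_pos h2]
      have hneg : χ s.val = (χ r)⁻¹ := by rw [h2]; exact hχ.1 r hr
      rcases row with i' | u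
      · simp only [Sum.elim_inl, hneg, inv_inv]; ring
      · simp only [Sum.elim_inr]
        split_ifs with h h'
        · subst h; simp
        · subst h'; simp only [hneg, inv_inv]; ring
        · simp
    simp only [if_neg h2]
    rcases row with i' | u
    · simp
    · simp only [Sum.elim_inr, mul_add, add_mul]
      congr 1
      · split_ifs with h
        · subst h; simp
        · simp
      · rw [← List.sum_map_mul_left, ← List.sum_map_mul_right]
        refine congrArg List.sum (List.map_congr_left fun km hkm => ?_)
        rw [chainCoeff_eq_chainFlat, List.mem_map] at hkm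
        obtain ⟨⟨s', u', k, M⟩, ha, rfl⟩ := hkm
        simp only [List.mem_filter, Bool.and_eq_true, decide_eq_true_eq] at ha
        obtain ⟨ha, rfl, rfl⟩ := ha
        rw [chainFlat_char htest hχ hr ha]
        simp only [Units.val_mul, Units.val_pow_eq_pow_val, Units.val_inv_eq_inv_val]
        field_simp
        ring

/-- The seven tables pass the character test. -/
theorem charTest_of_mem (hD : D ∈ [chevG2, chevB2, chevD4, chevF4, chevE6, chevE7, chevE8]) :
    charTest D = true := by
  simp only [List.mem_cons, List.not_mem_nil, or_false] at hD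
  rcases hD with rfl | rfl | rfl | rfl | rfl | rfl | rfl <;> decide +kernel

end CfsgLib.Chevalley
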