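import Cfsg.Agent.Lib.Chevalley.SignPerm
import Cfsg.Prelude.Def_ChevStructure
import Cfsg.Prelude.Def_ChevE6
import Cfsg.Prelude.Def_ChevD4

/-!
The diagram symmetries of E6 and the two triality symmetries of D4, as signed permutations of the
coordinates.
-/

set_option autoImplicit false

namespace CfsgLib.Chevalley

open Cfsg.Lie

/-- The images of the roots of E6 under the diagram symmetry [5, 1, 4, 3, 2, 0]. -/
def e6FlipRho : List ℕ := [0, 1, 2, 5, 16, 3, 6, 17, 8, 19, 22, 11, 26, 30, 33, 35, 4, 7, 18, 9, 20, 23, 10, 21, 24, 25, 12, 27, 31, 34, 13, 28, 32, 14, 29, 15, 56, 42, 57, 39, 43, 58, 37, 40, 44, 59, 46, 47, 50, 61, 48, 51, 62, 53, 64, 67, 36, 38, 41, 45, 60, 49, 52, 63, 54, 65, 68, 55, 66, 69, 70, 71]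

/-- The inverse of `e6FlipRho`. -/
def e6FlipRhoInv : List ℕ := [0, 1, 2, 5, 16, 3, 6, 17, 8, 19, 22, 11, 26, 30, 33, 35, 4, 7, 18, 9, 20, 23, 10, 21, 24, 25, 12, 27, 31, 34, 13, 28, 32, 14, 29, 15, 56, 42, 57, 39, 43, 58, 37, 40, 44, 59, 46, 47, 50, 61, 48, 51, 62, 53, 64, 67, 36, 38, 41, 45, 60, 49, 52, 63, 54, 65, 68, 55, 66, 69, 70, 71]

/-- The signs attached to the diagram symmetry [5, 1, 4, 3, 2, 0] of E6. -/
def e6FlipSign : List ℤ := [1, 1, 1, 1, -1, 1, 1, -1, 1, -1, -1, 1, -1, 1, -1, 1, -1, -1, 1, -1, 1, 1, -1, 1, 1, 1, -1, 1, -1, 1, 1, -1, 1, -1, 1, 1, 1, 1, -1, 1, -1, 1, 1, -1, 1, -1, 1, 1, 1, -1, 1, 1, -1, 1, -1, -1, 1, -1, 1, -1, 1, -1, -1, 1, -1, 1, 1, -1, 1, 1, 1, 1]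

theorem e6Flip_symTest : symTest chevE6 [5, 1, 4, 3, 2, 0] [5, 1, 4, 3, 2, 0] e6FlipRho e6FlipRhoInv e6FlipSign = true := by
  decide +kernel

theorem e6Flip_simple : ∀ i < chevE6.rank,
    e6FlipRho.getD (chevE6.simple i) 0 = chevE6.simple (([5, 1, 4, 3, 2, 0] : List ℕ).getD i 0) ∧
    e6FlipRho.getD (chevE6.neg (chevE6.simple i)) 0 = chevE6.neg (chevE6.simple (([5, 1, 4, 3, 2, 0] : List ℕ).getD i 0)) ∧
    e6FlipSign.getD (chevE6.simple i) 0 = 1 ∧ e6FlipSign.getD (chevE6.neg (chevE6.simple i)) 0 = 1 ∧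
    chevE6.simple i < chevE6.nroots ∧ chevE6.neg (chevE6.simple i) < chevE6.nroots := by
  decide +kernel

/-- The images of the roots of D4 under the diagram symmetry [2, 1, 3, 0]. -/
def d4TriARho : List ℕ := [0, 1, 6, 2, 7, 10, 3, 8, 4, 9, 11, 5, 18, 12, 14, 19, 15, 20, 13, 16, 21, 17, 22, 23]

/-- The inverse of `d4TriARho`. -/
def d4TriARhoInv : List ℕ := [0, 1, 3, 6, 8, 11, 2, 4, 7, 9, 5, 10, 13, 18, 14, 16, 19, 21, 12, 15, 17, 20, 22, 23]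

/-- The signs attached to the diagram symmetry [2, 1, 3, 0] of D4. -/
def d4TriASign : List ℤ := [1, 1, -1, 1, -1, 1, -1, 1, -1, 1, 1, 1, 1, 1, 1, -1, 1, -1, 1, -1, 1, -1, 1, 1]

theorem d4TriA_symTest : symTest chevD4 [2, 1, 3, 0] [3, 1, 0, 2] d4TriARho d4TriARhoInv d4TriASign = true := by
  decide +kernel

theorem d4TriA_simple : ∀ i < chevD4.rank,
    d4TriARho.getD (chevD4.simple i) 0 = chevD4.simple (([2, 1, 3, 0] : List ℕ).getD i 0) ∧
    d4TriARho.getD (chevD4.neg (chevD4.simple i)) 0 = chevD4.neg (chevD4.simple (([2, 1, 3, 0] : List ℕ).getD i 0)) ∧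
    d4TriASign.getD (chevD4.simple i) 0 = 1 ∧ d4TriASign.getD (chevD4.neg (chevD4.simple i)) 0 = 1 ∧
    chevD4.simple i < chevD4.nroots ∧ chevD4.neg (chevD4.simple i) < chevD4.nroots := by
  decide +kernel

/-- The images of the roots of D4 under the diagram symmetry [3, 1, 0, 2]. -/
def d4TriBRho : List ℕ := [0, 1, 3, 6, 8, 11, 2, 4, 7, 9, 5, 10, 13, 18, 14, 16, 19, 21, 12, 15, 17, 20, 22, 23]

/-- The inverse of `d4TriBRho`. -/
def d4TriBRhoInv : List ℕ := [0, 1, 6, 2, 7, 10, 3, 8, 4, 9, 11, 5, 18, 12, 14, 19, 15, 20, 13, 16, 21, 17, 22, 23]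

/-- The signs attached to the diagram symmetry [3, 1, 0, 2] of D4. -/
def d4TriBSign : List ℤ := [1, 1, 1, -1, -1, 1, -1, -1, 1, 1, 1, 1, 1, 1, 1, 1, -1, -1, 1, -1, -1, 1, 1, 1]

theorem d4TriB_symTest : symTest chevD4 [3, 1, 0, 2] [2, 1, 3, 0] d4TriBRho d4TriBRhoInv d4TriBSign = true := by
  decide +kernel

theorem d4TriB_simple : ∀ i < chevD4.rank,
    d4TriBRho.getD (chevD4.simple i) 0 = chevD4.simple (([3, 1, 0, 2] : List ℕ).getD i 0) ∧
    d4TriBRho.getD (chevD4.neg (chevD4.simple i)) 0 = chevD4.neg (chevD4.simple (([3, 1, 0, 2] : List ℕ).getD i 0)) ∧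
    d4TriBSign.getD (chevD4.simple i) 0 = 1 ∧ d4TriBSign.getD (chevD4.neg (chevD4.simple i)) 0 = 1 ∧
    chevD4.simple i < chevD4.nroots ∧ chevD4.neg (chevD4.simple i) < chevD4.nroots := by
  decide +kernel

end CfsgLib.Chevalley
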