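import Cfsg.Agent.Lib.Chevalley.ChainFlat

/-!
Symmetries of a Chevalley datum given by a permutation `π` of the nodes, a permutation `ρ` of the
root indices and signs `ε`: the signed permutation of the coordinates carries `x_r(t)` to
`x_{ρ r}(ε_r t)` and hence normalizes the Chevalley group.
-/

set_option autoImplicit false

open scoped MatrixGroups Matrix

namespace CfsgLib.Chevalley

open Cfsg.Lie Matrix

/-- Conjugation by a signed permutation matrix, as an automorphism of the monoid of matrices. -/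
def signConj {n R : Type*} [Fintype n] [DecidableEq n] [CommRing R] (σ : Equiv.Perm n) (c : n → R)
    (hc : ∀ i, c i * c i = 1) : Matrix n n R ≃* Matrix n n R where
  toFun M := Matrix.of fun i j => c i * c j * M (σ i) (σ j)
  invFun M := Matrix.of fun i j => c (σ.symm i) * c (σ.symm j) * M (σ.symm i) (σ.symm j)
  left_inv M := by
    ext i j
    simp only [of_apply, Equiv.apply_symm_apply]
    linear_combination (M i j) * (c (σ.symm j) * c (σ.symm j)) * hc (σ.symm i) +
      (M i j) * hc (σ.symm j)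
  right_inv M := by
    ext i j
    simp only [of_apply, Equiv.symm_apply_apply]
    linear_combination (M i j) * (c j * c j) * hc i + (M i j) * hc j
  map_mul' M N := by
    ext i j
    simp only [of_apply, Matrix.mul_apply, Finset.mul_sum]
    rw [← Equiv.sum_comp σ (fun k => c i * c j * (M (σ i) k * N k (σ j)))]
    refine Finset.sum_congr rfl fun k _ => ?_
    linear_combination (-(c i * c j * M (σ i) (σ k) * N (σ k) (σ j))) * hc k

theorem signConj_apply {n R : Type*} [Fintype n] [DecidableEq n] [CommRing R] (σ : Equiv.Perm n)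
    (c : n → R) (hc : ∀ i, c i * c i = 1) (M : Matrix n n R) (i j : n) :
    signConj σ c hc M i j = c i * c j * M (σ i) (σ j) := rfl

variable (D : ChevalleyDatum)

/-- The Boolean test that `(π, ρ, ε)` (with inverses `π'`, `ρ'`) is a symmetry of the tables. -/
def symTest (π π' ρ ρ' : List ℕ) (ε : List ℤ) : Bool :=
  (List.range D.rank).all (fun i => decide (π.getD i 0 < D.rank ∧ π'.getD i 0 < D.rank ∧
      π'.getD (π.getD i 0) 0 = i ∧ π.getD (π'.getD i 0) 0 = i)) &&
  (List.range D.nroots).all (fun r => decide (ρ.getD r 0 < D.nroots ∧ ρ'.getD r 0 < D.nroots ∧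
      ρ'.getD (ρ.getD r 0) 0 = r ∧ ρ.getD (ρ'.getD r 0) 0 = r)) &&
  (List.range D.nroots).all (fun r => decide (ε.getD r 0 * ε.getD r 0 = 1 ∧
      D.negIdx.getD r 0 < D.nroots ∧ D.negIdx.getD (ρ.getD r 0) 0 = ρ.getD (D.negIdx.getD r 0) 0 ∧
      ε.getD (D.negIdx.getD r 0) 0 = ε.getD r 0)) &&
  (List.range D.rank).all (fun i => (List.range D.nroots).all fun r => decide
      ((D.cartanSR.getD (π.getD i 0) #[]).getD (ρ.getD r 0) 0 = (D.cartanSR.getD i #[]).getD r 0 ∧
       (D.coroot.getD (ρ.getD r 0) #[]).getD (π.getD i 0) 0 = (D.coroot.getD r #[]).getD i 0)) &&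
  (List.range D.nroots).all (fun r =>
    (chainFlat D r).all (fun a => decide (a.1 < D.nroots ∧ a.2.1 < D.nroots)) &&
    List.isPerm ((chainFlat D r).map fun a => (ρ.getD a.1 0, ρ.getD a.2.1 0, a.2.2.1,
        ε.getD a.1 0 * ε.getD a.2.1 0 * ε.getD r 0 ^ a.2.2.1 * a.2.2.2))
      (chainFlat D (ρ.getD r 0)))

variable {D} {π π' ρ ρ' : List ℕ} {ε : List ℤ}

section
variable (h : symTest D π π' ρ ρ' ε = true)
include h

theorem symTest_node (i : ℕ) (hi : i < D.rank) : π.getD i 0 < D.rank ∧ π'.getD i 0 < D.rank ∧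
    π'.getD (π.getD i 0) 0 = i ∧ π.getD (π'.getD i 0) 0 = i := by
  simp only [symTest, Bool.and_eq_true, List.all_eq_true, List.mem_range, decide_eq_true_eq] at h
  exact h.1.1.1.1 i hi

theorem symTest_root (r : ℕ) (hr : r < D.nroots) : ρ.getD r 0 < D.nroots ∧ ρ'.getD r 0 < D.nroots ∧
    ρ'.getD (ρ.getD r 0) 0 = r ∧ ρ.getD (ρ'.getD r 0) 0 = r := by
  simp only [symTest, Bool.and_eq_true, List.all_eq_true, List.mem_range, decide_eq_true_eq] at h
  exact h.1.1.1.2 r hr

theorem symTest_sign (r : ℕ) (hr : r < D.nroots) : ε.getD r 0 * ε.getD r 0 = 1 ∧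
      D.negIdx.getD r 0 < D.nroots ∧
      D.negIdx.getD (ρ.getD r 0) 0 = ρ.getD (D.negIdx.getD r 0) 0 ∧
      ε.getD (D.negIdx.getD r 0) 0 = ε.getD r 0 := by
  simp only [symTest, Bool.and_eq_true, List.all_eq_true, List.mem_range, decide_eq_true_eq] at h
  exact h.1.1.2 r hr

theorem symTest_table (i r : ℕ) (hi : i < D.rank) (hr : r < D.nroots) :
      (D.cartanSR.getD (π.getD i 0) #[]).getD (ρ.getD r 0) 0 = (D.cartanSR.getD i #[]).getD r 0 ∧
       (D.coroot.getD (ρ.getD r 0) #[]).getD (π.getD i 0) 0 = (D.coroot.getD r #[]).getD i 0 := by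
  simp only [symTest, Bool.and_eq_true, List.all_eq_true, List.mem_range, decide_eq_true_eq] at h
  exact h.1.2 i hi r hr

theorem symTest_chain (r : ℕ) (hr : r < D.nroots) :
    (∀ a ∈ chainFlat D r, a.1 < D.nroots ∧ a.2.1 < D.nroots) ∧
    ((chainFlat D r).map fun a => (ρ.getD a.1 0, ρ.getD a.2.1 0, a.2.2.1,
        ε.getD a.1 0 * ε.getD a.2.1 0 * ε.getD r 0 ^ a.2.2.1 * a.2.2.2)).Perm
      (chainFlat D (ρ.getD r 0)) := by
  simp only [symTest, Bool.and_eq_true, List.all_eq_true, List.mem_range, decide_eq_true_eq] at h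
  exact ⟨(h.2 r hr).1, List.isPerm_iff.mp (h.2 r hr).2⟩

theorem chainCoeff_sym (r s u : ℕ) (hr : r < D.nroots) (hs : s < D.nroots) (hu : u < D.nroots) :
    List.Perm (D.chainCoeff (ρ.getD r 0) (ρ.getD s 0) (ρ.getD u 0))
      ((D.chainCoeff r s u).map fun km =>
        (km.1, ε.getD s 0 * ε.getD u 0 * ε.getD r 0 ^ km.1 * km.2)) := by
  obtain ⟨hb, hp⟩ := symTest_chain h r hr
  rw [chainCoeff_eq_chainFlat, chainCoeff_eq_chainFlat]
  refine (((hp.filter _).map _).symm).trans (List.Perm.of_eq ?_)
  rw [List.filter_map, List.map_map, List.map_map]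
  have hf : (chainFlat D r).filter ((fun a => decide (a.1 = ρ.getD s 0) &&
        decide (a.2.1 = ρ.getD u 0)) ∘ fun a => (ρ.getD a.1 0, ρ.getD a.2.1 0, a.2.2.1,
        ε.getD a.1 0 * ε.getD a.2.1 0 * ε.getD r 0 ^ a.2.2.1 * a.2.2.2)) =
      (chainFlat D r).filter (fun a => decide (a.1 = s) && decide (a.2.1 = u)) := by
    refine List.filter_congr fun a ha => ?_
    simp only [Function.comp_apply]
    have e1 : decide (ρ.getD a.1 0 = ρ.getD s 0) = decide (a.1 = s) := decide_eq_decide.mpr
      ⟨fun e => by rw [← (symTest_root h _ (hb a ha).1).2.2.1, e, (symTest_root h _ hs).2.2.1],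
       fun e => by rw [e]⟩
    have e2 : decide (ρ.getD a.2.1 0 = ρ.getD u 0) = decide (a.2.1 = u) := decide_eq_decide.mpr
      ⟨fun e => by rw [← (symTest_root h _ (hb a ha).2).2.2.1, e, (symTest_root h _ hu).2.2.1],
       fun e => by rw [e]⟩
    rw [e1, e2]
  rw [hf]
  refine List.map_congr_left fun a ha => ?_
  simp only [List.mem_filter, Bool.and_eq_true, decide_eq_true_eq] at ha
  simp only [Function.comp_apply, ha.2.1, ha.2.2]

/-- The permutation of the coordinates. -/
def symPerm : Equiv.Perm D.Idx :=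
  Equiv.sumCongr
    { toFun := fun i => ⟨π'.getD i 0, (symTest_node h i i.2).2.1⟩
      invFun := fun i => ⟨π.getD i 0, (symTest_node h i i.2).1⟩
      left_inv := fun i => Fin.ext (symTest_node h i i.2).2.2.2
      right_inv := fun i => Fin.ext (symTest_node h i i.2).2.2.1 }
    { toFun := fun i => ⟨ρ'.getD i 0, (symTest_root h i i.2).2.1⟩
      invFun := fun i => ⟨ρ.getD i 0, (symTest_root h i i.2).1⟩
      left_inv := fun i => Fin.ext (symTest_root h i i.2).2.2.2
      right_inv := fun i => Fin.ext (symTest_root h i i.2).2.2.1 }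

variable {F : Type*} [Field F]

/-- The signed permutation of coordinates as an automorphism of the monoid of matrices. -/
def symConj : Matrix D.Idx D.Idx F ≃* Matrix D.Idx D.Idx F :=
  signConj (symPerm h) (Sum.elim (fun _ => 1) fun u => ((ε.getD (ρ'.getD u.val 0) 0 : ℤ) : F))
    (by
      rintro (i | u)
      · simp
      · simp only [Sum.elim_inr]
        rw [← Int.cast_mul, (symTest_sign h _ (symTest_root h _ u.2).2.1).1, Int.cast_one])

theorem symConj_x (r : ℕ) (hr : r < D.nroots) (t : F) :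
    symConj h (D.x F r t) = D.x F (ρ.getD r 0) ((ε.getD r 0 : ℤ) * t) := by
  have hρr := (symTest_root h r hr).1
  obtain ⟨hsq, hnr, hnρ, hεn⟩ := symTest_sign h r hr
  have hsqF : ((ε.getD r 0 : ℤ) : F) * ((ε.getD r 0 : ℤ) : F) = 1 := by
    rw [← Int.cast_mul, hsq, Int.cast_one]
  ext row col
  obtain ⟨row, rfl⟩ := (symPerm h).symm.surjective row
  obtain ⟨col, rfl⟩ := (symPerm h).symm.surjective col
  rw [symConj, signConj_apply, Equiv.apply_symm_apply, Equiv.apply_symm_apply]
  simp only [ChevalleyDatum.x, dif_pos hr, dif_pos hρr, ChevalleyDatum.xMat, Matrix.of_apply]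
  have key : ∀ a : Fin D.nroots, ρ'.getD (ρ.getD a 0) 0 = (a : ℕ) :=
    fun a => (symTest_root h a a.2).2.2.1
  have inj : ∀ a b : ℕ, a < D.nroots → b < D.nroots → (ρ.getD a 0 = ρ.getD b 0 ↔ a = b) := by
    intro a b ha hb
    exact ⟨fun e => by rw [← (symTest_root h a ha).2.2.1, e, (symTest_root h b hb).2.2.1],
      fun e => by rw [e]⟩
  rcases col with i | s
  · rcases row with i' | u
    · simp only [symPerm, Equiv.sumCongr_symm, Equiv.sumCongr_apply, Sum.map_inl, Sum.elim_inl]
      have : (i' = i) ↔ π.getD i' 0 = π.getD i 0 :=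
        ⟨fun e => by rw [e], fun e => Fin.ext (by
          rw [← (symTest_node h i' i'.2).2.2.1, e, (symTest_node h i i.2).2.2.1])⟩
      simp [Fin.ext_iff, this]
    · simp only [symPerm, Equiv.sumCongr_symm, Equiv.sumCongr_apply, Sum.map_inl, Sum.map_inr,
        Sum.elim_inl, Sum.elim_inr, Equiv.symm_mk, Equiv.coe_fn_mk, key]
      simp only [Fin.ext_iff, inj u r u.2 hr, (symTest_table h i r i.2 hr).1]
      by_cases hu : (u : ℕ) = r
      · simp only [hu, if_true]
        ring
      · simp [hu]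
  · by_cases h1 : (s : ℕ) = r
    · rcases row with i' | u
      · simp [symPerm, Fin.ext_iff, h1]
      · simp only [symPerm, Equiv.sumCongr_symm, Equiv.sumCongr_apply, Sum.map_inr,
          Sum.elim_inr, Equiv.symm_mk, Equiv.coe_fn_mk, key]
        simp only [Fin.ext_iff, h1, if_true, inj u r u.2 hr]
        by_cases hu : (u : ℕ) = r
        · simp only [hu, if_true, mul_one]
          exact hsqF
        · simp [hu]
    · have h1' : ρ.getD s 0 ≠ ρ.getD r 0 := fun e => h1 ((inj _ _ s.2 hr).mp e)
      by_cases h2 : (s : ℕ) = D.negIdx.getD r 0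
      · have h2' : ρ.getD s 0 = D.negIdx.getD (ρ.getD r 0) 0 := by rw [hnρ, h2]
        rcases row with i' | u
        · simp only [symPerm, Equiv.sumCongr_symm, Equiv.sumCongr_apply, Sum.map_inl, Sum.map_inr,
            Sum.elim_inl, Sum.elim_inr, Equiv.symm_mk, Equiv.coe_fn_mk, key, Fin.ext_iff,
            if_neg h1, if_neg h1', if_pos h2, if_pos h2', (symTest_table h i' r i'.2 hr).2]
          rw [h2, hεn]
          ring
        · simp only [symPerm, Equiv.sumCongr_symm, Equiv.sumCongr_apply, Sum.map_inr,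
            Sum.elim_inr, Equiv.symm_mk, Equiv.coe_fn_mk, key, Fin.ext_iff,
            if_neg h1, if_neg h1', if_pos h2, if_pos h2', inj u r u.2 hr, inj u s u.2 s.2]
          by_cases hu : (u : ℕ) = r
          · have hus : (u : ℕ) ≠ s := fun e => h1 (e.symm.trans hu)
            rw [if_neg hus, if_pos hu, if_neg hus, if_pos hu, hu, h2, hεn]
            ring
          · by_cases hus : (u : ℕ) = s
            · rw [if_pos hus, if_pos hus, hus, h2, hεn, mul_one]
              exact hsqF
            · rw [if_neg hus, if_neg hu, if_neg hus, if_neg hu, mul_zero]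
      · have h2' : ρ.getD s 0 ≠ D.negIdx.getD (ρ.getD r 0) 0 := by
          rw [hnρ]
          exact fun e => h2 ((inj _ _ s.2 hnr).mp e)
        rcases row with i' | u
        · simp only [symPerm, Equiv.sumCongr_symm, Equiv.sumCongr_apply, Sum.map_inl, Sum.map_inr,
            Sum.elim_inl, Sum.elim_inr, Equiv.symm_mk, Equiv.coe_fn_mk, Fin.ext_iff,
            if_neg h1, if_neg h1', if_neg h2, if_neg h2', mul_zero]
        · simp only [symPerm, Equiv.sumCongr_symm, Equiv.sumCongr_apply, Sum.map_inr,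
            Sum.elim_inr, Equiv.symm_mk, Equiv.coe_fn_mk, key, Fin.ext_iff,
            if_neg h1, if_neg h1', if_neg h2, if_neg h2', inj u s u.2 s.2]
          rw [((chainCoeff_sym h r s u hr s.2 u.2).map _).sum_eq, List.map_map, mul_add]
          congr 1
          · by_cases hus : (u : ℕ) = s
            · rw [if_pos hus, hus, mul_one, ← Int.cast_mul, (symTest_sign h s s.2).1, Int.cast_one]
            · rw [if_neg hus, mul_zero]
          · rw [← List.sum_map_mul_left]
            refine congrArg List.sum (List.map_congr_left fun km _ => ?_)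
            simp only [Function.comp_apply, Int.cast_mul, Int.cast_pow]
            have hp : ((ε.getD r 0 : ℤ) : F) ^ km.1 * ((ε.getD r 0 : ℤ) : F) ^ km.1 = 1 := by
              rw [← mul_pow, hsqF, one_pow]
            linear_combination (-(((ε.getD s.val 0 : ℤ) : F) * ((ε.getD u.val 0 : ℤ) : F) *
              ((km.2 : ℤ) : F) * t ^ km.1)) * hp

/-- The signed permutation as an automorphism of the general linear group. -/
def symGL : GL D.Idx F ≃* GL D.Idx F := Units.mapEquiv (symConj h)

theorem group_map_symGL :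
    (D.group F).map (symGL (F := F) h).toMonoidHom = D.group F := by
  rw [ChevalleyDatum.group, MonoidHom.map_closure]
  congr 1
  have hx : ∀ (r : Fin D.nroots) (t : F), D.xMat F r t = D.x F r t := by
    intro r t; simp [ChevalleyDatum.x, r.2]
  ext g
  constructor
  · rintro ⟨g', ⟨r, t, ht⟩, rfl⟩
    refine ⟨⟨ρ.getD r 0, (symTest_root h r r.2).1⟩, (ε.getD r.val 0 : ℤ) * t, ?_⟩
    rw [hx]
    exact (congrArg (symConj h) ht).trans (by rw [hx]; exact symConj_x h r r.2 t)
  · rintro ⟨r, t, ht⟩
    obtain ⟨-, hr', -, hrr⟩ := symTest_root h r r.2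
    refine ⟨(symGL h).symm g, ⟨⟨ρ'.getD r 0, hr'⟩, (ε.getD (ρ'.getD r.val 0) 0 : ℤ) * t, ?_⟩, ?_⟩
    · apply (symConj h).injective
      have hl : symConj h ((((symGL h).symm g : GL D.Idx F) : Matrix D.Idx D.Idx F)) =
          (g : Matrix D.Idx D.Idx F) := congrArg Units.val ((symGL h).apply_symm_apply g)
      rw [hl, ht, hx, hx, symConj_x h _ hr', hrr, ← mul_assoc, ← Int.cast_mul,
        (symTest_sign h _ hr').1, Int.cast_one, one_mul]
    · exact (symGL h).apply_symm_apply g

/-- The automorphism of the Chevalley group attached to a symmetry of the tables. -/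
noncomputable def symAut : ↥(D.group F) ≃* ↥(D.group F) :=
  ((symGL h).subgroupMap (D.group F)).trans (MulEquiv.subgroupCongr (group_map_symGL h))

theorem symAut_coe (g : ↥(D.group F)) :
    ((symAut h g : GL D.Idx F) : Matrix D.Idx D.Idx F) =
      symConj h ((g : GL D.Idx F) : Matrix D.Idx D.Idx F) := rfl

theorem symAut_x (g : ↥(D.group F)) (r : ℕ) (hr : r < D.nroots) (t : F)
    (hg : ((g : GL D.Idx F) : Matrix D.Idx D.Idx F) = D.x F r t) :
    ((symAut h g : GL D.Idx F) : Matrix D.Idx D.Idx F) =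
      D.x F (ρ.getD r 0) ((ε.getD r 0 : ℤ) * t) := by
  rw [symAut_coe, hg, symConj_x h r hr]

end

end CfsgLib.Chevalley
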