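import Cfsg.Agent.Lib.Chev.Torus
import Cfsg.Agent.Lib.Chev.All
import Cfsg.Prelude.Def_ChevAutomorphisms

/-!
Generation of a Chevalley group by the root elements of the fundamental roots and their negatives;
field and graph automorphisms commute; graph automorphisms of a simply laced type send every root
element to a root element up to a sign.
-/

set_option autoImplicit false

namespace CfsgLib.ChevGraph

open Cfsg.Lie CfsgLib.Chev
open scoped MatrixGroups Matrix

variable {D : ChevalleyDatum} {T : Tabs} {F : Type*} [Field F]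

/-- The root elements of the fundamental roots and their negatives. -/
def simpleGens (D : ChevalleyDatum) (F : Type*) [Field F] : Set (GL D.Idx F) :=
  {g | ∃ (i : Fin D.rank) (t : F), g = elX D F (D.simple i) t ∨ g = elX D F (D.neg (D.simple i)) t}

theorem elX_mem (hc : Checked D T) {r : ℕ} (hr : r < D.nroots) (t : F) :
    elX D F r t ∈ D.group F :=
  Subgroup.subset_closure ⟨⟨r, hr⟩, t, by
    rw [coe_elX hc F hr, ChevalleyDatum.x, dif_pos hr]⟩

/-- The root element as a member of the Chevalley group. -/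
noncomputable def gX (hc : Checked D T) {r : ℕ} (hr : r < D.nroots) (t : F) : ↥(D.group F) :=
  ⟨elX D F r t, elX_mem hc hr t⟩

theorem gX_eq (hc : Checked D T) {r : ℕ} (hr : r < D.nroots) {g : ↥(D.group F)} {t : F}
    (h : ((g : GL D.Idx F) : Matrix D.Idx D.Idx F) = D.x F r t) : g = gX hc hr t :=
  Subtype.ext (Units.ext (by rw [h]; exact (coe_elX hc F hr t).symm))

theorem coe_gX (hc : Checked D T) {r : ℕ} (hr : r < D.nroots) (t : F) :
    (((gX hc hr t : ↥(D.group F)) : GL D.Idx F) : Matrix D.Idx D.Idx F) = D.x F r t :=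
  coe_elX hc F hr t

theorem group_le_closure_simpleGens (hc : Checked D T) :
    D.group F ≤ Subgroup.closure (simpleGens D F) := by
  set H := Subgroup.closure (simpleGens D F)
  have key : ∀ r, r < D.nroots → ∀ t : F, elX D F r t ∈ H := by
    intro r hr
    refine root_induction hc (P := fun r => ∀ t : F, elX D F r t ∈ H)
      (fun i t => Subgroup.subset_closure ⟨i, t, Or.inl rfl⟩) (fun i s hs hP t => ?_) hr
    have hN : elN D F (D.simple i) 1 ∈ H :=
      mul_mem (mul_mem (Subgroup.subset_closure ⟨i, 1, Or.inl rfl⟩)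
        (Subgroup.subset_closure ⟨i, _, Or.inr rfl⟩)) (Subgroup.subset_closure ⟨i, 1, Or.inl rfl⟩)
    have h := mul_mem (mul_mem hN (hP ((eta D T i s : F) * t))) (inv_mem hN)
    rw [nOne_conj_elX hc i hs, ← mul_assoc] at h
    rcases eta_cast hc (F := F) i hs with e | e <;> rw [e] at h <;> simpa using h
  rw [ChevalleyDatum.group, Subgroup.closure_le]
  rintro g ⟨r, t, hg⟩
  have : g = elX D F r t := Units.ext (by
    rw [hg, coe_elX hc F r.2, ChevalleyDatum.x, dif_pos r.2])
  rw [this]
  exact key r r.2 t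

/-- Two homomorphisms agreeing on the simple root elements agree. -/
theorem hom_ext_simple (hc : Checked D T) {M : Type*} [Monoid M] (f g : ↥(D.group F) →* M)
    (hp : ∀ (i : Fin D.rank) (t : F), f (gX hc (simple_lt hc i.2) t) = g (gX hc (simple_lt hc i.2) t))
    (hn : ∀ (i : Fin D.rank) (t : F),
      f (gX hc (neg_lt hc (simple_lt hc i.2)) t) = g (gX hc (neg_lt hc (simple_lt hc i.2)) t))
    (y : ↥(D.group F)) : f y = g y := by
  have hle : Subgroup.closure (simpleGens D F) ≤
      (MonoidHom.eqLocus f g).map (D.group F).subtype := by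
    rw [Subgroup.closure_le]
    rintro x ⟨i, t, rfl | rfl⟩
    · exact ⟨_, hp i t, rfl⟩
    · exact ⟨_, hn i t, rfl⟩
  obtain ⟨z, hz, hzy⟩ := hle (group_le_closure_simpleGens hc y.2)
  rwa [show y = z from Subtype.ext hzy.symm]

/-- Field and graph automorphisms commute. -/
theorem field_graph_commute (hc : Checked D T) (f g : ↥(D.group F) ≃* ↥(D.group F))
    (hf : D.IsFieldAut f) (hg : D.IsGraphAut g) (y : ↥(D.group F)) : f (g y) = g (f y) := by
  obtain ⟨σ, hσ⟩ := hf
  obtain ⟨π, -, hπ⟩ := hg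
  have hfX : ∀ {r : ℕ} (hr : r < D.nroots) (t : F), f (gX hc hr t) = gX hc hr (σ t) :=
    fun hr t => gX_eq hc hr (hσ _ _ t hr (coe_gX hc hr t))
  refine hom_ext_simple hc (f.toMonoidHom.comp g.toMonoidHom) (g.toMonoidHom.comp f.toMonoidHom)
    (fun i t => ?_) (fun i t => ?_) y
  · show f (g _) = g (f _)
    rw [gX_eq hc (simple_lt hc (π i).2) ((hπ _ i t).1 (coe_gX hc _ t)), hfX, hfX,
      gX_eq hc (simple_lt hc (π i).2) ((hπ _ i (σ t)).1 (coe_gX hc _ _)), map_pow]
  · show f (g _) = g (f _)
    rw [gX_eq hc (neg_lt hc (simple_lt hc (π i).2)) ((hπ _ i t).2 (coe_gX hc _ t)), hfX, hfX,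
      gX_eq hc (neg_lt hc (simple_lt hc (π i).2)) ((hπ _ i (σ t)).2 (coe_gX hc _ _)), map_pow]

/-- Simply laced: Cartan matrix symmetric with off-diagonal entries `0, -1`, coroots distinct. -/
def SimplyLaced (D : ChevalleyDatum) : Prop :=
  (∀ i j : Fin D.rank, i ≠ j → cm D i j = cm D j i ∧ (cm D i j = 0 ∨ cm D i j = -1)) ∧
    ((List.range D.nroots).map fun r =>
      (List.range D.rank).map fun i => (D.coroot.getD r #[]).getD i 0).Nodup

theorem simplyLaced_of_mem (hD : D ∈ [chevD4, chevE6]) : SimplyLaced D := by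
  simp only [List.mem_cons, List.not_mem_nil, or_false] at hD
  rcases hD with rfl | rfl <;> refine ⟨?_, ?_⟩ <;> decide +kernel

theorem cm_perm (hc : Checked D T) (hl : SimplyLaced D) {π : Equiv.Perm (Fin D.rank)}
    (hπ : D.IsDiagramSymmetry π) (i j : Fin D.rank) : cm D (π i) (π j) = cm D i j := by
  by_cases hij : i = j
  · subst hij; rw [cm_self hc, cm_self hc]
  · have hb : cm D (π i) (π j) * cm D (π j) (π i) = cm D i j * cm D j i := hπ i j hij
    obtain ⟨e1, h1⟩ := hl.1 (π i) (π j) (fun h => hij (π.injective h))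
    obtain ⟨e2, h2⟩ := hl.1 i j hij
    rw [← e1, ← e2] at hb
    rcases h1 with h1 | h1 <;> rcases h2 with h2 | h2 <;> rw [h1, h2] at hb ⊢ <;> norm_num at hb

theorem cv_sig_perm (hc : Checked D T) (hl : SimplyLaced D) {π : Equiv.Perm (Fin D.rank)}
    (hπ : D.IsDiagramSymmetry π) (i : Fin D.rank) {s q : ℕ} (hs : s < D.nroots) (hq : q < D.nroots)
    (h : ∀ j : Fin D.rank, cv T q (π j) = cv T s j) (j : Fin D.rank) :
    cv T (sig D T (π i) q) (π j) = cv T (sig D T i s) j := by
  rw [(refl_spec hc (π i) hq).2.2.2, (refl_spec hc i hs).2.2.2, h,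
    ← Equiv.sum_comp π fun k => cv T q k * cm D k (π i)]
  simp only [h, cm_perm hc hl hπ, π.injective.eq_iff]

theorem permRoot_eq (hc : Checked D T) (hl : SimplyLaced D) (π : Equiv.Perm (Fin D.rank))
    {r q : ℕ} (hr : r < D.nroots) (hq : q < D.nroots)
    (h : ∀ j : Fin D.rank, cv T q (π j) = cv T r j) : D.permRoot π r = q := by
  have hpq : ((List.finRange D.rank).all fun i =>
      (D.coroot.getD q #[]).getD (π i).val 0 == (D.coroot.getD r #[]).getD i.val 0) = true := by
    simp only [List.all_eq_true, beq_iff_eq]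
    intro i _
    rw [coroot_eq hc hq (π i).2, coroot_eq hc hr i.2, h]
  unfold ChevalleyDatum.permRoot
  cases hf : (List.range D.nroots).find? fun s => (List.finRange D.rank).all fun i =>
      (D.coroot.getD s #[]).getD (π i).val 0 == (D.coroot.getD r #[]).getD i.val 0 with
  | none => exact absurd hpq (List.find?_eq_none.1 hf q (List.mem_range.2 hq))
  | some s =>
    have hs := List.mem_range.1 (List.mem_of_find?_eq_some hf)
    have hps := List.find?_some hf
    simp only [List.all_eq_true, beq_iff_eq] at hps hpq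
    refine List.inj_on_of_nodup_map hl.2 (List.mem_range.2 hs) (List.mem_range.2 hq) ?_
    refine List.map_congr_left fun i hi => ?_
    have hi' := List.mem_range.1 hi
    have a := hps (π.symm ⟨i, hi'⟩) (List.mem_finRange _)
    have b := hpq (π.symm ⟨i, hi'⟩) (List.mem_finRange _)
    rw [Equiv.apply_symm_apply] at a b
    exact a.trans b.symm

/-- A graph automorphism of a simply laced type sends root elements to root elements up to sign. -/
theorem graph_root_elem (hc : Checked D T) (hl : SimplyLaced D) (π : Equiv.Perm (Fin D.rank))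
    (hπ : D.IsDiagramSymmetry π) (φ : ↥(D.group F) ≃* ↥(D.group F))
    (hφ : ∀ (g : ↥(D.group F)) (i : Fin D.rank) (t : F),
      (((g : GL D.Idx F) : Matrix D.Idx D.Idx F) = D.x F (D.simple i) t →
        ((φ g : GL D.Idx F) : Matrix D.Idx D.Idx F) = D.x F (D.simple (π i)) t) ∧
      (((g : GL D.Idx F) : Matrix D.Idx D.Idx F) = D.x F (D.neg (D.simple i)) t →
        ((φ g : GL D.Idx F) : Matrix D.Idx D.Idx F) = D.x F (D.neg (D.simple (π i))) t))
    (r : ℕ) (hr : r < D.nroots) :
    ∃ ε : F, (ε = 1 ∨ ε = -1) ∧ ∀ (g : ↥(D.group F)) (t : F),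
      ((g : GL D.Idx F) : Matrix D.Idx D.Idx F) = D.x F r t →
        ((φ g : GL D.Idx F) : Matrix D.Idx D.Idx F) = D.x F (D.permRoot π r) (ε * t) := by
  let nS : Fin D.rank → ↥(D.group F) := fun i => gX hc (simple_lt hc i.2) 1 *
    gX hc (neg_lt hc (simple_lt hc i.2)) (-(1 : F)⁻¹) * gX hc (simple_lt hc i.2) 1
  have hnS : ∀ i, φ (nS i) = nS (π i) := fun i => by
    simp only [nS, map_mul]
    rw [gX_eq hc (simple_lt hc (π i).2) ((hφ _ i 1).1 (coe_gX hc _ _)),
      gX_eq hc (neg_lt hc (simple_lt hc (π i).2)) ((hφ _ i (-(1 : F)⁻¹)).2 (coe_gX hc _ _))]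
  have key : ∀ s, s < D.nroots → ∃ (q : ℕ) (hq : q < D.nroots),
      (∀ j : Fin D.rank, cv T q (π j) = cv T s j) ∧ ∃ ε : F, (ε = 1 ∨ ε = -1) ∧
        ∀ (t : F) (g : ↥(D.group F)), (g : GL D.Idx F) = elX D F s t →
          (φ g : GL D.Idx F) = elX D F q (ε * t) := by
    intro s hs
    refine root_induction hc (P := fun s => ∃ (q : ℕ) (hq : q < D.nroots),
      (∀ j : Fin D.rank, cv T q (π j) = cv T s j) ∧ ∃ ε : F, (ε = 1 ∨ ε = -1) ∧
        ∀ (t : F) (g : ↥(D.group F)), (g : GL D.Idx F) = elX D F s t →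
          (φ g : GL D.Idx F) = elX D F q (ε * t)) (fun i => ?_) (fun i s hs hP => ?_) hs
    · refine ⟨D.simple (π i), simple_lt hc (π i).2, fun j => ?_, 1, Or.inl rfl, fun t g hg => ?_⟩
      · rw [cv_simple hc (π i).2 (π j).2, cv_simple hc i.2 j.2]
        simp [← Fin.ext_iff, π.injective.eq_iff]
      · rw [one_mul]
        exact Units.ext (((hφ g i t).1 (by rw [hg, coe_elX hc F (simple_lt hc i.2)])).trans
          (coe_elX hc F (simple_lt hc (π i).2) t).symm)
    · obtain ⟨q, hq, hcv, ε, hε, hX⟩ := hP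
      refine ⟨sig D T (π i) q, sig_lt hc (π i) hq, cv_sig_perm hc hl hπ i hs hq hcv,
        (eta D T (π i) q : F) * ε * (eta D T i s : F), ?_, fun t g hg => ?_⟩
      · rcases eta_cast hc (F := F) (π i) hq with a | a <;>
          rcases eta_cast hc (F := F) i hs with b | b <;> rcases hε with c | c <;> simp [a, b, c]
      · have he : (eta D T i s : F) * ((eta D T i s : F) * t) = t := by
          rcases eta_cast hc (F := F) i hs with b | b <;> simp [b]
        have hgd : g = nS i * gX hc hs ((eta D T i s : F) * t) * (nS i)⁻¹ := Subtype.ext (by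
          rw [hg]
          show _ = elN D F (D.simple i) 1 * elX D F s _ * (elN D F (D.simple i) 1)⁻¹
          rw [nOne_conj_elX hc i hs, he])
        rw [hgd, map_mul, map_mul, map_inv, hnS]
        show elN D F (D.simple (π i)) 1 * (φ (gX hc hs _) : GL D.Idx F) *
          (elN D F (D.simple (π i)) 1)⁻¹ = _
        rw [hX _ (gX hc hs _) rfl, nOne_conj_elX hc (π i) hq]
        congr 1
        ring
  obtain ⟨q, hq, hcv, ε, hε, hX⟩ := key r hr
  refine ⟨ε, hε, fun g t hg => ?_⟩
  rw [permRoot_eq hc hl π hr hq hcv, hX t g (congrArg Subtype.val (gX_eq hc hr hg)),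
    coe_elX hc F hq]

end CfsgLib.ChevGraph
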