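import Cfsg.Prelude.Def_ChevWords

/-!
The chain table of a Chevalley datum flattened to a list of quadruples `(s, u, k, M)`, meaning that
`M t ^ k e_u` is a term of `x_r(t) e_s`.
-/

set_option autoImplicit false

namespace CfsgLib.Chevalley

open Cfsg.Lie

variable (D : ChevalleyDatum)

/-- The row of the chain table at `r`, flattened to quadruples `(s, u, k, M)`. -/
def chainFlat (r : ℕ) : List (ℕ × ℕ × ℕ × ℤ) :=
  (D.chain.getD r #[]).toList.flatMap fun e =>
    e.2.toList.zipIdx.map fun q => (e.1, q.1.1, q.2 + 1, q.1.2)

theorem chainCoeff_eq_chainFlat (r s u : ℕ) :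
    D.chainCoeff r s u =
      ((chainFlat D r).filter (fun a => decide (a.1 = s) && decide (a.2.1 = u))).map
        (fun a => a.2.2) := by
  unfold ChevalleyDatum.chainCoeff chainFlat
  induction (D.chain.getD r #[]).toList with
  | nil => simp
  | cons e l ih =>
    by_cases he : e.1 = s
    · rw [List.filter_cons_of_pos (by simp [he])]
      simp only [List.flatMap_cons, List.filter_append, List.map_append, ih]
      congr 1
      simp [List.filter_map, List.map_map, Function.comp_def, he]
    · rw [List.filter_cons_of_neg (by simp [he])]
      simp only [List.flatMap_cons, List.filter_append, List.map_append, ih]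
      simp [List.filter_map, Function.comp_def, he]

end CfsgLib.Chevalley
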