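import Cfsg.Agent.Lib.Chev.Bruhat
import Cfsg.Prelude.Def_LieTypes

/-!
The canonical form `b n u` with `u` in the subgroup of roots made negative by `n`.
-/

set_option autoImplicit false
set_option linter.unusedSectionVars false

namespace CfsgLib.Chevalley

open Cfsg.Lie CfsgLib.Chev

variable {D : ChevalleyDatum} {T : Tabs} {F : Type*} [Field F]

/-- The subgroup generated by the positive root elements carried by `n` into `V`. -/
def uOf (D : ChevalleyDatum) (F : Type*) [Field F] (n : GL D.Idx F) : Subgroup (GL D.Idx F) :=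
  Subgroup.closure {x : GL D.Idx F | ∃ (r : ℕ) (t : F), D.IsPosRoot r ∧
    (D.rootSubgroup F r).map (MulAut.conj n).toMonoidHom ≤ D.negUnipotent F ∧
      (x : Matrix D.Idx D.Idx F) = D.x F r t}

section
variable (hc : Checked D T)
include hc

theorem uOf_eq {k : GL D.Idx F} (hk : k ∈ D.diagonalSubgroup F) (L : List (Fin D.rank)) :
    uOf D F (k * nProd D F L) = uInv D T F L := by
  have hconj : ∀ {r : ℕ}, r < D.nroots → ∃ c : Fˣ, ∀ t : F,
      k * nProd D F L * elX D F r t * (k * nProd D F L)⁻¹ = elX D F (sigs D T L r) ((c : F) * t) := by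
    intro r hr
    obtain ⟨c, -, hcx⟩ := nProd_conj_elX hc (F := F) L hr
    obtain ⟨e, he⟩ := diagonal_conj_elX hc hk (sigs_lt hc L hr)
    refine ⟨e * c, fun t => ?_⟩
    rw [show k * nProd D F L * elX D F r t * (k * nProd D F L)⁻¹ =
      k * (nProd D F L * elX D F r t * (nProd D F L)⁻¹) * k⁻¹ by group, hcx, he, Units.val_mul,
      mul_assoc]
  have hiff : ∀ {r : ℕ}, r < D.nroots → D.nroots / 2 ≤ r →
      ((D.rootSubgroup F r).map (MulAut.conj (k * nProd D F L)).toMonoidHom ≤ D.negUnipotent F ↔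
        sigs D T L r < D.nroots / 2) := by
    intro r hr hp
    obtain ⟨c, hcx⟩ := hconj hr
    constructor
    · intro h
      by_contra hh
      have h1 : elX D F (sigs D T L r) ((c : F) * 1) ∈ D.negUnipotent F :=
        h ⟨elX D F r 1, (mem_rootSubgroup hc hr).2 ⟨1, rfl⟩, hcx 1⟩
      rw [negUnipotent_eq hc] at h1
      have := borel_inf_neg hc (elX_mem_borel hc (sigs_lt hc L hr) (Nat.not_lt.mp hh) _) h1
      rw [elX_eq_one_iff hc (sigs_lt hc L hr)] at this
      simp at this
    · rintro h g ⟨x, hx, rfl⟩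
      obtain ⟨t, rfl⟩ := (mem_rootSubgroup hc hr).1 hx
      show k * nProd D F L * elX D F r t * (k * nProd D F L)⁻¹ ∈ _
      rw [hcx, negUnipotent_eq hc]
      exact elX_mem_uGen (sigs_lt hc L hr) (P := fun r => r < D.nroots / 2) h _
  apply le_antisymm
  · refine (Subgroup.closure_le _).2 ?_
    rintro x ⟨r, t, hr, hle, hx⟩
    obtain ⟨hlt, hp⟩ := (isPosRoot_iff hc).1 hr
    rw [eq_elX_of_coe hc hlt hx]
    exact elX_mem_uGen hlt (P := InvRoot D T L) ⟨hp, (hiff hlt hp).1 hle⟩ t
  · rw [uInv, uGen_le_iff]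
    intro r hr hP t
    exact Subgroup.subset_closure
      ⟨r, t, (isPosRoot_iff hc).2 ⟨hr, hP.1⟩, (hiff hr hP.1).2 hP.2, coe_elX hc F hr t⟩

theorem normal_form (hcomm : CommOne D T) :
    (∀ g ∈ D.group F, ∃ b ∈ D.borelSubgroup F, ∃ n ∈ D.monomialSubgroup F, ∃ u ∈ uOf D F n,
      g = b * n * u) ∧
    (∀ (b b' n n' u u' : GL D.Idx F), b ∈ D.borelSubgroup F → b' ∈ D.borelSubgroup F →
      n ∈ D.monomialSubgroup F → n' ∈ D.monomialSubgroup F →
      u ∈ uOf D F n → u' ∈ uOf D F n' →
      b * n * u = b' * n' * u' → n⁻¹ * n' ∈ D.diagonalSubgroup F ∧ (n = n' → b = b' ∧ u = u')) := by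
  constructor
  · intro g hg
    obtain ⟨u, hu, h, hh, L, v, hv, rfl⟩ := exists_bruhat hc hcomm hg
    refine ⟨u * h, mul_mem (pos_le_borel hc hu) (diagonal_le_borel hc hh), nProd D F L,
      nProd_mem_monomial hc L, v, ?_, by group⟩
    have := uOf_eq hc (one_mem (D.diagonalSubgroup F)) L
    rw [one_mul] at this
    rwa [this]
  · intro b b' n n' u u' hb hb' hn hn' hu hu' e
    obtain ⟨k, hk, L, rfl⟩ := monomial_cases hc hn
    obtain ⟨k', hk', M, rfl⟩ := monomial_cases hc hn'
    rw [uOf_eq hc hk] at hu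
    rw [uOf_eq hc hk'] at hu'
    obtain ⟨a, ha, h, hh, rfl⟩ := (mem_borel hc).1 hb
    obtain ⟨a', ha', h', hh', rfl⟩ := (mem_borel hc).1 hb'
    obtain ⟨hsig, haa, huu, hnn⟩ := bruhat_unique hc (mul_mem hh hk) (mul_mem hh' hk') ha ha' hu hu'
      (L := L) (M := M) (by simpa only [mul_assoc] using e)
    refine ⟨?_, fun hnn' => ?_⟩
    · have h1 : k' * nProd D F M = h'⁻¹ * h * (k * nProd D F L) := by
        rw [show h'⁻¹ * h * (k * nProd D F L) = h'⁻¹ * (h * k * nProd D F L) by group, hnn]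
        group
      rw [h1]
      have := monomial_conj_diagonal hc (inv_mem hn) (mul_mem (inv_mem hh') hh)
      rwa [inv_inv, mul_assoc] at this
    · rw [show h * k * nProd D F L = h * (k * nProd D F L) by group,
        show h' * k' * nProd D F M = h' * (k' * nProd D F M) by group, ← hnn'] at hnn
      exact ⟨by rw [haa, mul_right_cancel hnn], huu⟩

end

end CfsgLib.Chevalley
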